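import Cfsg.Agent.Lib.GWConsumers12.CoverSL2
import Cfsg.Agent.Lib.GorensteinWalter.Interface
import Cfsg.Agent.Lib.PGroups.UniqueInvolution
import Cfsg.Agent.Lib.MetacyclicChains.MaximalClassTwo
import Cfsg.Agent.Lib.ZStar.Elements
import Cfsg.Agent.S0201
import Cfsg.Prelude.Def_CaseTheorems
import Cfsg.Prelude.Def_SporadicB

/-!
# Perfect groups of 2-rank one, given the Gorenstein-Walter theorem (helper12)
-/

set_option autoImplicit false

universe u

namespace Cfsg.Agent.Lib.GWConsumers12

open Subgroup

/-- The Gorenstein-Walter theorem for perfect groups (statement S0483). -/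
def GWPerfect : Prop :=
  ∀ (X : Type u) [Group X] [Finite X] [Group.IsPerfect X] (S : Sylow 2 X) (n : ℕ), 2 ≤ n →
    Nonempty ((S : Subgroup X) ≃* DihedralGroup n) →
    (∃ (F : Type) (_ : Field F) (_ : Fintype F), Odd (Fintype.card F) ∧ 3 < Fintype.card F ∧
        Nonempty (X ⧸ Cfsg.oddCore X ≃* Matrix.ProjectiveSpecialLinearGroup (Fin 2) F)) ∨
      Nonempty (X ⧸ Cfsg.oddCore X ≃* alternatingGroup (Fin 7))

variable {X : Type u} [Group X] [Finite X]

/-- The Sylow 2-subgroups of a perfect group of even order and 2-rank one are quaternion. -/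
theorem exists_quaternion (hP : Group.IsPerfect X) (h1 : Cfsg.PRankLE 2 1 X)
    (h2 : Even (Nat.card X)) (S : Sylow 2 X) :
    ∃ n : ℕ, Nonempty ((S : Subgroup X) ≃* QuaternionGroup (2 ^ (n + 1))) := by
  haveI : Fact (Nat.Prime 2) := ⟨Nat.prime_two⟩
  have hu : ∀ x y : (S : Subgroup X), orderOf x = 2 → orderOf y = 2 → y ∈ zpowers x := by
    intro x y hx hy
    by_contra hne
    have hp : IsPGroup 2 (S : Subgroup X) := S.2
    haveI : Nontrivial (S : Subgroup X) := ⟨⟨x, 1, fun h => by simp [h] at hx⟩⟩
    haveI := hp.center_nontrivial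
    obtain ⟨⟨c, hc⟩, hco⟩ : ∃ c : center (S : Subgroup X), orderOf c = 2 :=
      exists_prime_orderOf_dvd_card' 2 (by
        obtain ⟨k, hk0, hk⟩ := (hp.to_subgroup (center (S : Subgroup X))).nontrivial_iff_card.1 inferInstance
        rw [hk]
        exact dvd_pow_self 2 hk0.ne')
    rw [← Subgroup.orderOf_coe] at hco
    have key : ∀ w : (S : Subgroup X), orderOf w = 2 → w = c := by
      intro w hw
      by_contra hwc
      set A := Subgroup.closure ({(w : X), (c : X)} : Set X) with hA
      have hcomm : (w : X) * c = c * w := congrArg Subtype.val (mem_center_iff.1 hc w)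
      have hw' : orderOf (w : X) = 2 := by rw [Subgroup.orderOf_coe]; exact hw
      have hc' : orderOf (c : X) = 2 := by rw [Subgroup.orderOf_coe]; exact hco
      have hw2 : (w : X) ^ 2 = 1 := by
        have := pow_orderOf_eq_one (w : X); rwa [hw'] at this
      have hc2 : (c : X) ^ 2 = 1 := by
        have := pow_orderOf_eq_one (c : X); rwa [hc'] at this
      haveI hAc : IsMulCommutative A := Subgroup.isMulCommutative_closure (by
        rintro a (rfl | rfl) b (rfl | rfl) <;> first | rfl | exact hcomm | exact hcomm.symm)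
      have hAe : ∀ a ∈ A, a ^ 2 = 1 := by
        intro a ha
        induction ha using Subgroup.closure_induction with
        | mem a ha => rcases ha with rfl | rfl <;> assumption
        | one => exact one_pow 2
        | mul a b ha hb iha ihb =>
          have hab : Commute a b := congrArg Subtype.val (hAc.is_comm.comm ⟨a, ha⟩ ⟨b, hb⟩)
          rw [hab.mul_pow, iha, ihb, one_mul]
        | inv a _ iha => rw [inv_pow, iha, inv_one]
      have hle := h1 A hAc hAe
      have hsub : ({1, (w : X), (c : X)} : Set X) ⊆ A := by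
        rintro a (rfl | rfl | rfl)
        · exact one_mem _
        · exact Subgroup.subset_closure (Or.inl rfl)
        · exact Subgroup.subset_closure (Or.inr rfl)
      have h3 : ({1, (w : X), (c : X)} : Set X).ncard = 3 := by
        refine Set.ncard_eq_three.2 ⟨_, _, _, ?_, ?_, ?_, rfl⟩
        · intro h
          rw [← Subgroup.orderOf_coe, ← h, orderOf_one] at hw
          omega
        · intro h
          rw [← Subgroup.orderOf_coe, ← h, orderOf_one] at hco
          omega
        · exact fun h => hwc (Subtype.ext h)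
      have := Set.ncard_le_ncard hsub (Set.toFinite _)
      rw [h3, show (A : Set X).ncard = Nat.card A from rfl] at this
      omega
    exact hne ((key y hy).trans (key x hx).symm ▸ mem_zpowers x)
  rcases Cfsg.Agent.Lib.PGroups.isCyclic_or_quaternion (p := 2) S.2 hu with hcyc | ⟨-, m, hm, he⟩
  · exfalso
    have hmin : (Nat.card X).minFac = 2 :=
      (Nat.minFac_eq_two_iff _).2 (even_iff_two_dvd.1 h2)
    have hN := IsCyclic.normalizer_le_centralizer hmin hcyc
    have hcompl := MonoidHom.ker_transferSylow_isComplement' S hN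
    have hker : (MonoidHom.transferSylow S hN).ker = ⊤ := by
      haveI : IsMulCommutative (S : Subgroup X) := by
        haveI := hcyc
        exact ⟨⟨fun a b => (IsCyclic.commGroup (α := (S : Subgroup X))).mul_comm a b⟩⟩
      have hle : commutator X ≤ (MonoidHom.transferSylow S hN).ker := by
        rw [_root_.commutator_def, Subgroup.commutator_le]
        intro a _ b _
        rw [MonoidHom.mem_ker, map_commutatorElement, commutatorElement_eq_one_iff_mul_comm]
        exact IsMulCommutative.is_comm.comm _ _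
      rw [Group.isPerfect_def.1 hP] at hle
      exact top_unique hle
    rw [hker] at hcompl
    have := hcompl.card_mul_card
    rw [Subgroup.card_top] at this
    have hS1 : Nat.card (S : Subgroup X) = 1 :=
      (Nat.mul_eq_left Nat.card_pos.ne').1 this
    have hd := (S : Subgroup X).card_mul_index
    rw [hS1, one_mul] at hd
    exact S.not_dvd_index (hd ▸ even_iff_two_dvd.1 h2)
  · exact ⟨m - 1, by rwa [Nat.sub_add_cancel hm]⟩

/-- A quotient map with odd kernel is injective on a 2-subgroup. -/
theorem inj_on_two {G : Type*} [Group G] [Finite G] {N P : Subgroup G} [N.Normal]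
    (hP : IsPGroup 2 P) (hN : Odd (Nat.card N)) :
    Function.Injective ((QuotientGroup.mk' N).comp P.subtype) := by
  haveI : Fact (Nat.Prime 2) := ⟨Nat.prime_two⟩
  rw [← MonoidHom.ker_eq_bot_iff, Subgroup.eq_bot_iff_forall]
  intro x hx
  rw [MonoidHom.mem_ker, MonoidHom.comp_apply, QuotientGroup.mk'_apply, QuotientGroup.eq_one_iff] at hx
  obtain ⟨k, hk⟩ := IsPGroup.iff_orderOf.1 hP x
  have hd : orderOf (x : G) ∣ Nat.card N := Subgroup.orderOf_dvd_natCard N hx
  rw [Subgroup.orderOf_coe, hk] at hd
  rcases k with _ | k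
  · rwa [pow_zero, orderOf_eq_one_iff] at hk
  · exact absurd (even_iff_two_dvd.2 ((dvd_pow_self 2 (Nat.succ_ne_zero k)).trans hd))
      (Nat.not_even_iff_odd.2 hN)

/-- The central involution modulo which a quaternion group becomes dihedral. -/
theorem dihedral_mod_center {G : Type*} [Group G] [Finite G] (S : Sylow 2 G) (m : ℕ) [NeZero m]
    (e : (S : Subgroup G) ≃* QuaternionGroup m) (hZ : Nat.card (center G) = 2) :
    Nonempty (((S.mapSurjective (QuotientGroup.mk'_surjective (center G))) :
      Subgroup (G ⧸ center G)) ≃* DihedralGroup m) := by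
  haveI : Fact (Nat.Prime 2) := ⟨Nat.prime_two⟩
  obtain ⟨⟨z, hz⟩, hzo⟩ := exists_prime_orderOf_dvd_card' (G := center G) 2 (by rw [hZ])
  rw [← Subgroup.orderOf_coe] at hzo
  change orderOf z = 2 at hzo
  have hzS : z ∈ (S : Subgroup G) := by
    have hp : IsPGroup 2 (center G) := IsPGroup.of_card (n := 1) (by rw [hZ, pow_one])
    exact hp.le_sylow_of_normal S hz
  set f : QuaternionGroup m →* G ⧸ center G :=
    ((QuotientGroup.mk' (center G)).comp (S : Subgroup G).subtype).comp e.symm.toMonoidHom with hf
  have hrange : f.range = ((S.mapSurjective (QuotientGroup.mk'_surjective (center G))) :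
      Subgroup (G ⧸ center G)) := by
    rw [hf, MonoidHom.range_comp, MonoidHom.range_eq_top.2 e.symm.surjective, ← MonoidHom.range_eq_map,
      MonoidHom.range_comp, Subgroup.range_subtype]
    rfl
  have hzq : e ⟨z, hzS⟩ = QuaternionGroup.a (m : ZMod (2 * m)) :=
    Cfsg.Agent.Lib.TwoGroups.Recognition.quaternion_invol_eq (by
      rw [MulEquiv.orderOf_eq, ← Subgroup.orderOf_coe]; exact hzo)
  have hker : f.ker = (Cfsg.Agent.Lib.MetacyclicChains.quatToDihedral m).ker := by
    ext q
    constructor
    · intro hq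
      have hqc : (e.symm q : G) ∈ center G := (QuotientGroup.eq_one_iff _).1 hq
      by_cases h1 : (e.symm q : G) = 1
      · rw [show q = 1 from e.symm.injective (Subtype.ext (by rw [h1, map_one]; rfl))]
        exact one_mem _
      · have hqz : (e.symm q : G) = z := by
          obtain ⟨a, ha, -⟩ := (Nat.card_eq_two_iff' (1 : center G)).1 hZ
          have huniq : ∀ b : center G, b ≠ 1 → b = a := by
            intro b hb
            obtain ⟨a', -, ha'⟩ := (Nat.card_eq_two_iff' (1 : center G)).1 hZ
            exact (ha' b hb).trans (ha' a ha).symm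
          have hz1 : (⟨z, hz⟩ : center G) ≠ 1 := fun h => by
            rw [show z = 1 from congrArg Subtype.val h, orderOf_one] at hzo; omega
          exact congrArg Subtype.val ((huniq ⟨_, hqc⟩ fun h => h1 (congrArg Subtype.val h)).trans
            (huniq ⟨z, hz⟩ hz1).symm)
        have hq' : q = QuaternionGroup.a (m : ZMod (2 * m)) := by
          rw [← hzq, show (⟨z, hzS⟩ : (S : Subgroup G)) = e.symm q from Subtype.ext hqz.symm,
            e.apply_symm_apply]
        rw [hq', MonoidHom.mem_ker]
        show DihedralGroup.r _ = DihedralGroup.r 0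
        rw [map_natCast, ZMod.natCast_self]
    · intro hq
      rcases Cfsg.Agent.Lib.MetacyclicChains.quatToDihedral_ker hq with h | h
      · rw [h]; exact one_mem _
      · rw [h, ← hzq, MonoidHom.mem_ker, hf, MonoidHom.comp_apply]
        show (QuotientGroup.mk' (center G)) ((e.symm (e ⟨z, hzS⟩) : (S : Subgroup G)) : G) = 1
        rw [e.symm_apply_apply, QuotientGroup.mk'_apply, QuotientGroup.eq_one_iff]
        exact hz
  exact ⟨(MulEquiv.subgroupCongr hrange).symm.trans ((QuotientGroup.quotientKerEquivRange f).symm.trans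
    ((QuotientGroup.quotientMulEquivOfEq hker).trans (QuotientGroup.quotientKerEquivOfSurjective _
      (Cfsg.Agent.Lib.MetacyclicChains.quatToDihedral_surjective m))))⟩

/-- Modulo a central subgroup of order two a group without odd core has none either. -/
theorem oddCore_quot_center {G : Type*} [Group G] [Finite G]
    (hO : ∀ N : Subgroup G, N.Normal → Odd (Nat.card N) → N = ⊥)
    (hZ : Nat.card (center G) = 2) : Cfsg.oddCore (G ⧸ center G) = ⊥ := by
  have hodd : Odd (Nat.card (Cfsg.oddCore (G ⧸ center G))) :=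
    Cfsg.Agent.Lib.ZStar.Elements.oddCore_odd
  set π := QuotientGroup.mk' (center G) with hπ
  set N := (Cfsg.oddCore (G ⧸ center G)).comap π with hN
  have hNn : N.Normal := inferInstanceAs ((Cfsg.oddCore (G ⧸ center G)).comap π).Normal
  have hle : center G ≤ N := fun x hx => by
    have hx1 : π x = 1 := (QuotientGroup.eq_one_iff x).2 hx
    exact Subgroup.mem_comap.2 (by rw [hx1]; exact one_mem _)
  set Z := (center G).subgroupOf N with hZdef
  have hZn : Z.Normal := inferInstanceAs ((center G).subgroupOf N).Normal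
  have hZc : Nat.card Z = 2 := by rw [Nat.card_congr (subgroupOfEquivOfLe hle).toEquiv, hZ]
  have hindex : Z.index = Nat.card (Cfsg.oddCore (G ⧸ center G)) := by
    let φ : N →* (Cfsg.oddCore (G ⧸ center G)) := π.subgroupComap _
    have hs : Function.Surjective φ := by
      rintro ⟨y, hy⟩
      obtain ⟨x, rfl⟩ := QuotientGroup.mk'_surjective (center G) y
      exact ⟨⟨x, hy⟩, rfl⟩
    have hk : φ.ker = Z := by
      ext x
      rw [MonoidHom.mem_ker, hZdef, Subgroup.mem_subgroupOf, ← QuotientGroup.eq_one_iff]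
      exact ⟨fun h => congrArg Subtype.val h, fun h => Subtype.ext h⟩
    rw [← hk, Subgroup.index_ker, MonoidHom.range_eq_top.2 hs, Subgroup.card_top]
  obtain ⟨K, hK⟩ := Subgroup.exists_left_complement'_of_coprime (N := Z)
    (by rw [hZc, hindex]; exact Nat.coprime_two_left.2 hodd)
  have hKc : Nat.card K = Nat.card (Cfsg.oddCore (G ⧸ center G)) := by
    rw [← hindex]
    exact hK.index_eq_card.symm
  -- the complement consists of all elements of odd order
  have hKn : (K.map N.subtype).Normal := by
    constructor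
    rintro _ ⟨k, hk, rfl⟩ g
    have hko : Odd (orderOf (k : G)) := by
      rw [Subgroup.orderOf_coe]
      exact (hKc ▸ hodd).of_dvd_nat (Subgroup.orderOf_dvd_natCard K hk)
    have hg : g * (k : G) * g⁻¹ ∈ N := hNn.conj_mem _ k.2 g
    refine ⟨⟨_, hg⟩, ?_, rfl⟩
    obtain ⟨⟨a, b⟩, hab⟩ := hK.existsUnique ⟨_, hg⟩ |>.exists
    have hbz : ((b : N) : G) ∈ center G := Subgroup.mem_subgroupOf.1 b.2
    have hab' : ((a : N) : G) * ((b : N) : G) = g * (k : G) * g⁻¹ := congrArg Subtype.val hab
    -- the central factor has odd order and order dividing two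
    have hb1 : ((b : N) : G) = 1 := by
      have hcomm : Commute ((a : N) : G) ((b : N) : G) := mem_center_iff.1 hbz _
      obtain ⟨j, hj⟩ := hko
      obtain ⟨i, hi⟩ := (hKc ▸ hodd : Odd (Nat.card K))
      have h1 : (g * (k : G) * g⁻¹) ^ (orderOf (k : G) * Nat.card K) = 1 := by
        rw [conj_pow, pow_mul, pow_orderOf_eq_one, one_pow, mul_one, mul_inv_cancel]
      rw [← hab', hcomm.mul_pow] at h1
      have ha1 : ((a : N) : G) ^ (orderOf (k : G) * Nat.card K) = 1 := by
        rw [mul_comm, pow_mul]
        have : (a : K) ^ Nat.card K = 1 := pow_card_eq_one'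
        have h' : ((a : N) : G) ^ Nat.card K = 1 := congrArg (fun y : K => ((y : N) : G)) this
        rw [h', one_pow]
      rw [ha1, one_mul] at h1
      have hb2 : ((b : N) : G) ^ 2 = 1 := by
        have : b ^ Nat.card Z = 1 := pow_card_eq_one'
        rw [hZc] at this
        simpa using congrArg (fun z : Z => ((z : N) : G)) this
      obtain ⟨w, hw⟩ := (show Odd (orderOf (k : G) * Nat.card K) from
        Odd.mul ⟨j, hj⟩ ⟨i, hi⟩)
      rw [hw, pow_succ, pow_mul, hb2, one_pow, one_mul] at h1
      exact h1
    have h' : (⟨g * (k : G) * g⁻¹, hg⟩ : N) = (a : N) := Subtype.ext (by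
      show g * (k : G) * g⁻¹ = ((a : N) : G)
      rw [← hab', hb1, mul_one])
    exact h' ▸ a.2
  have hbot := hO _ hKn (by
    rw [Nat.card_congr (K.equivMapOfInjective N.subtype N.subtype_injective).symm.toEquiv, hKc]
    exact hodd)
  rw [← Subgroup.card_eq_one, ← hKc,
    Nat.card_congr (K.equivMapOfInjective N.subtype N.subtype_injective).toEquiv, hbot, Subgroup.card_bot]

theorem main (hGW : GWPerfect.{u}) (hP : Group.IsPerfect X) (h1 : Cfsg.PRankLE 2 1 X)
    (h2 : Even (Nat.card X)) :
    (∃ (F : Type) (_ : Field F) (_ : Fintype F), Odd (Fintype.card F) ∧ 3 < Fintype.card F ∧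
        Nonempty (X ⧸ Cfsg.oddCore X ≃* Matrix.SpecialLinearGroup (Fin 2) F)) ∨
      Cfsg.IsNonsplitDoubleCover (X ⧸ Cfsg.oddCore X) ↥(alternatingGroup (Fin 7)) := by
  haveI : Fact (Nat.Prime 2) := ⟨Nat.prime_two⟩
  haveI := hP
  let S : Sylow 2 X := default
  obtain ⟨n, ⟨e⟩⟩ := exists_quaternion hP h1 h2 S
  set G := X ⧸ Cfsg.oddCore X
  let T : Sylow 2 G := S.mapSurjective (QuotientGroup.mk'_surjective (Cfsg.oddCore X))
  have hinj := inj_on_two (N := Cfsg.oddCore X) (P := (S : Subgroup X)) S.2
    Cfsg.Agent.Lib.ZStar.Elements.oddCore_odd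
  have hTeq : ((QuotientGroup.mk' (Cfsg.oddCore X)).comp (S : Subgroup X).subtype).range
      = (T : Subgroup G) := by
    rw [MonoidHom.range_comp, Subgroup.range_subtype]; rfl
  have eT : (T : Subgroup G) ≃* QuaternionGroup (2 ^ (n + 1)) :=
    ((MulEquiv.subgroupCongr hTeq).symm.trans (MonoidHom.ofInjective hinj).symm).trans e
  have hO : ∀ N : Subgroup G, N.Normal → Odd (Nat.card N) → N = ⊥ :=
    Cfsg.Agent.Lib.ZStar.Elements.quotient_oddCore
  have hZ := Cfsg.Agent.S0201.result T n eT hO
  haveI : NeZero (2 ^ (n + 1)) := ⟨by positivity⟩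
  have hD := dihedral_mod_center T (2 ^ (n + 1)) eT hZ
  have hO' := oddCore_quot_center hO hZ
  have h4 : 2 ≤ 2 ^ (n + 1) := by
    rw [pow_succ]
    have := Nat.one_le_pow n 2 two_pos
    omega
  have key := hGW (G ⧸ center G) _ (2 ^ (n + 1)) h4 hD
  let q₀ : (G ⧸ center G) ⧸ Cfsg.oddCore (G ⧸ center G) ≃* G ⧸ center G :=
    (QuotientGroup.quotientMulEquivOfEq hO').trans QuotientGroup.quotientBot
  have hperf : commutator G = ⊤ := Group.isPerfect_def.1 inferInstance
  rcases key with ⟨F, hF1, hF2, hodd, h3, ⟨r⟩⟩ | r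
  · left
    let r' : G ⧸ center G ≃* Matrix.ProjectiveSpecialLinearGroup (Fin 2) F :=
      q₀.symm.trans r
    refine ⟨F, hF1, hF2, hodd, h3, ?_⟩
    have hk : (r'.toMonoidHom.comp (QuotientGroup.mk' (center G))).ker = center G := by
      ext x; simp [MonoidHom.mem_ker]
    exact nonempty_equiv_SL2 hperf hodd h3 _ (r'.surjective.comp (QuotientGroup.mk'_surjective _))
      hk.le (by rw [hk, hZ])
  · right
    obtain ⟨r⟩ := r
    refine ⟨hZ, ⟨q₀.symm.trans r⟩, fun L hL => ?_⟩
    have hidx : L.index = 2 := by rw [hL.index_eq_card, hZ]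
    haveI : L.Normal := Subgroup.normal_of_index_eq_two hidx
    haveI : IsMulCommutative (G ⧸ L) := by
      haveI : IsCyclic (G ⧸ L) := isCyclic_of_prime_card (p := 2) (by rw [← Subgroup.index_eq_card, hidx])
      exact ⟨⟨fun a b => (IsCyclic.commGroup (α := G ⧸ L)).mul_comm a b⟩⟩
    have hle : commutator G ≤ L := Subgroup.Normal.quotient_commutative_iff_commutator_le.1 inferInstance
    rw [hperf] at hle
    rw [top_unique hle, Subgroup.index_top] at hidx
    omega

end Cfsg.Agent.Lib.GWConsumers12
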