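import Cfsg.Agent.Lib.Multiplier.Perfect
import Cfsg.Agent.Lib.Schur.MultiplierSL
import Cfsg.Agent.Lib.Linear.SmallIso.PSL9
import Cfsg.Agent.Lib.ExactCover.Alt6

/-!
# The perfect double covers of `PSL(2,q)`, `q` odd, are `SL(2,q)` (helper12)
-/

set_option autoImplicit false

namespace Cfsg.Agent.Lib.GWConsumers12

universe u

open Subgroup

/-- A lift into a perfect central extension of a surjection is surjective. -/
theorem lift_surjective_of_perfect {U X Q : Type*} [Group U] [Group X] [Group Q]
    (hX : commutator X = ⊤) (η : U →* X) (ξ : X →* Q) (hk : ξ.ker ≤ Subgroup.center X)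
    (hs : Function.Surjective (ξ.comp η)) : Function.Surjective η := by
  have hsup : η.range ⊔ ξ.ker = ⊤ := by
    rw [eq_top_iff]
    intro x _
    obtain ⟨u, hu⟩ := hs (ξ x)
    have hm : (η u)⁻¹ * x ∈ ξ.ker := by
      rw [MonoidHom.mem_ker, map_mul, map_inv, show ξ (η u) = ξ x from hu, inv_mul_cancel]
    have := mul_mem (Subgroup.mem_sup_left (T := ξ.ker) (MonoidHom.mem_range.2 ⟨u, rfl⟩ : η u ∈ η.range))
      (Subgroup.mem_sup_right (S := η.range) hm)
    rwa [mul_inv_cancel_left] at this
  have hle := Cfsg.Agent.Lib.Multiplier.commutator_le_of_sup_central η.range ξ.ker hk hsup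
  intro x
  exact (hle.trans (commutator_le_self _)) (hX.symm ▸ mem_top x)

theorem card_dom {U Q : Type*} [Group U] [Group Q] (f : U →* Q) (hf : Function.Surjective f) :
    Nat.card U = Nat.card f.ker * Nat.card Q := by
  rw [← f.ker.card_mul_index, Subgroup.index_ker, MonoidHom.range_eq_top.2 hf, Subgroup.card_top]

/-- A cyclic group has at most one subgroup of each order. -/
theorem eq_of_card_eq_cyclic {C : Type*} [Group C] [Finite C] [IsCyclic C] {A B : Subgroup C}
    (h : Nat.card A = Nat.card B) : A = B := by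
  classical
  haveI := Fintype.ofFinite C
  have key : ∀ D : Subgroup C, Nat.card D = Nat.card A →
      (Finset.univ.filter fun x => x ∈ D) = Finset.univ.filter fun x : C => x ^ Nat.card A = 1 := by
    intro D hD
    refine Finset.eq_of_subset_of_card_le ?_ ?_
    · intro x hx
      simp only [Finset.mem_filter, Finset.mem_univ, true_and] at hx ⊢
      have := Subgroup.orderOf_dvd_natCard D hx
      rw [hD] at this
      exact orderOf_dvd_iff_pow_eq_one.1 this
    · have h1 : (Finset.univ.filter fun x => x ∈ D).card = Nat.card A := by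
        rw [← hD, Nat.card_eq_fintype_card, ← Fintype.card_subtype]
      rw [h1]
      exact IsCyclic.card_pow_eq_one_le Nat.card_pos
  ext x
  simpa using Finset.ext_iff.1 ((key A rfl).trans (key B h.symm).symm) x

/-- Two perfect double covers of a group with cyclic multiplier are isomorphic. -/
theorem nonempty_equiv_of_universal {Q U X Y : Type*} [Group Q] [Group U] [Group X] [Group Y]
    [Finite U] (π : U →* Q) [IsCyclic π.ker]
    (hX : commutator X = ⊤) (ξ : X →* Q) (hkX : ξ.ker ≤ Subgroup.center X)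
    (hY : commutator Y = ⊤) (υ : Y →* Q) (hkY : υ.ker ≤ Subgroup.center Y)
    (hπ : Function.Surjective π) (hcard : Nat.card X = Nat.card Y)
    (η : U →* X) (hη : ξ.comp η = π) (θ : U →* Y) (hθ : υ.comp θ = π) :
    Nonempty (X ≃* Y) := by
  have sη : Function.Surjective η := lift_surjective_of_perfect hX η ξ hkX (by rw [hη]; exact hπ)
  have sθ : Function.Surjective θ := lift_surjective_of_perfect hY θ υ hkY (by rw [hθ]; exact hπ)
  have hηle : η.ker ≤ π.ker := fun x hx => by
    rw [MonoidHom.mem_ker, ← hη, MonoidHom.comp_apply, MonoidHom.mem_ker.1 hx, map_one]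
  have hθle : θ.ker ≤ π.ker := fun x hx => by
    rw [MonoidHom.mem_ker, ← hθ, MonoidHom.comp_apply, MonoidHom.mem_ker.1 hx, map_one]
  have h1 := card_dom η sη
  have h2 := card_dom θ sθ
  haveI : Finite X := Finite.of_surjective η sη
  haveI : Finite Y := Finite.of_surjective θ sθ
  have hc : Nat.card η.ker = Nat.card θ.ker :=
    Nat.eq_of_mul_eq_mul_right (Nat.card_pos (α := Y)) (by rw [← h2, ← hcard, ← h1])
  have hker : η.ker = θ.ker := by
    have heq : η.ker.subgroupOf π.ker = θ.ker.subgroupOf π.ker := by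
      refine eq_of_card_eq_cyclic ?_
      rw [Nat.card_congr (subgroupOfEquivOfLe hηle).toEquiv,
        Nat.card_congr (subgroupOfEquivOfLe hθle).toEquiv, hc]
    rw [Subgroup.subgroupOf_inj, inf_eq_left.2 hηle, inf_eq_left.2 hθle] at heq
    exact heq
  exact ⟨(QuotientGroup.quotientKerEquivOfSurjective η sη).symm.trans
    ((QuotientGroup.quotientMulEquivOfEq hker).trans (QuotientGroup.quotientKerEquivOfSurjective θ sθ))⟩

/-- A perfect central extension with kernel of order two of `PSL(2,q)`, `q` odd, is `SL(2,q)`. -/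
theorem nonempty_equiv_SL2 {X : Type u} [Group X] [Finite X] (hX : commutator X = ⊤)
    {F : Type} [Field F] [Fintype F] (hodd : Odd (Fintype.card F)) (h3 : 3 < Fintype.card F)
    (ξ : X →* Matrix.ProjectiveSpecialLinearGroup (Fin 2) F) (hs : Function.Surjective ξ)
    (hc : ξ.ker ≤ Subgroup.center X) (h2 : Nat.card ξ.ker = 2) :
    Nonempty (X ≃* Matrix.SpecialLinearGroup (Fin 2) F) := by
  classical
  have hF : Nat.card F = Fintype.card F := Nat.card_eq_fintype_card
  let σ : Matrix.SpecialLinearGroup (Fin 2) F →* Matrix.ProjectiveSpecialLinearGroup (Fin 2) F :=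
    QuotientGroup.mk' _
  have hσ : Function.Surjective σ := QuotientGroup.mk'_surjective _
  have hσk : σ.ker = Subgroup.center (Matrix.SpecialLinearGroup (Fin 2) F) := QuotientGroup.ker_mk' _
  have hσ2 : Nat.card σ.ker = 2 := by
    rw [hσk, Cfsg.Agent.Lib.Linear.card_center_SL, Fintype.card_fin, hF]
    obtain ⟨k, hk⟩ := hodd
    rw [hk, Nat.add_sub_cancel, Nat.gcd_eq_left (dvd_mul_right 2 k)]
  have hperf : commutator (Matrix.SpecialLinearGroup (Fin 2) F) = ⊤ :=
    Cfsg.Agent.Lib.Linear.commutator_SL_eq_top (F := F) le_rfl (fun _ => by omega)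
  have hcard : Nat.card X = Nat.card (Matrix.SpecialLinearGroup (Fin 2) F) := by
    rw [card_dom ξ hs, card_dom σ hσ, h2, hσ2]
  by_cases h9 : Fintype.card F = 9
  · obtain ⟨e⟩ := Cfsg.Agent.Lib.Linear.SmallIso.nonempty_psl_two_nine h9
    let ξ' := e.toMonoidHom.comp ξ
    let σ' := e.toMonoidHom.comp σ
    have hξk : ξ'.ker = ξ.ker := MonoidHom.ker_mulEquiv_comp ξ e
    have hσk' : σ'.ker = σ.ker := MonoidHom.ker_mulEquiv_comp σ e
    have hAP : commutator (alternatingGroup (Fin 6)) = ⊤ := by
      rw [commutator_def, ← Subgroup.map_top_of_surjective ξ' (e.surjective.comp hs),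
        ← map_commutator, ← commutator_def, hX]
    obtain ⟨U, _, _, π, hUp, hπ, hπc, huniv⟩ :=
      Cfsg.Agent.Lib.Multiplier.exists_universal.{0, u} (alternatingGroup (Fin 6)) hAP
    obtain ⟨η, hη, -⟩ := huniv X ξ' (e.surjective.comp hs) (hξk ▸ hc)
    let ε : ULift.{u} (Matrix.SpecialLinearGroup (Fin 2) F) ≃* Matrix.SpecialLinearGroup (Fin 2) F :=
      MulEquiv.ulift
    let υ := σ'.comp ε.toMonoidHom
    have hυc : υ.ker ≤ Subgroup.center (ULift.{u} (Matrix.SpecialLinearGroup (Fin 2) F)) := by
      intro y hy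
      have hm : ε y ∈ σ'.ker := hy
      rw [hσk', hσk] at hm
      rw [Subgroup.mem_center_iff] at hm ⊢
      intro z
      exact ε.injective (by rw [map_mul, map_mul]; exact hm _)
    have hυs : Function.Surjective υ := (e.surjective.comp hσ).comp ε.surjective
    obtain ⟨θ, hθ, -⟩ := huniv _ υ hυs hυc
    have hst : Cfsg.IsStemExtension π := ⟨hπ, hπc, by rw [hUp]; exact le_top⟩
    obtain ⟨p, hp⟩ := Cfsg.Agent.Lib.ExactCover.Alt6.multiplier.2 U π hst
    haveI : IsCyclic π.ker := isCyclic_of_surjective p hp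
    have hperf' : commutator (ULift.{u} (Matrix.SpecialLinearGroup (Fin 2) F)) = ⊤ := by
      rw [commutator_def, ← Subgroup.map_top_of_surjective ε.symm.toMonoidHom ε.symm.surjective,
        ← map_commutator, ← commutator_def, hperf]
    obtain ⟨r⟩ := nonempty_equiv_of_universal π hX ξ' (hξk ▸ hc) hperf' υ hυc hπ
      (by rw [hcard]; exact Nat.card_congr Equiv.ulift.symm) η hη θ hθ
    exact ⟨r.trans ε⟩
  · obtain ⟨τ, hτ⟩ := Cfsg.Agent.Lib.Schur.LiftSL2.exists_lift hc hs σ
      (by obtain ⟨k, hk⟩ := hodd; omega) (by omega)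
    have hts : Function.Surjective τ := lift_surjective_of_perfect hX τ ξ hc (by rw [hτ]; exact hσ)
    exact ⟨(MulEquiv.ofBijective τ ⟨((Nat.bijective_iff_surjective_and_card τ).2 ⟨hts, hcard.symm⟩).1, hts⟩).symm⟩

end Cfsg.Agent.Lib.GWConsumers12
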