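import Mathlib
import Cfsg.Prelude.Def_SporadicB

/-!
# Perfect double covers are nonsplit (helper12)
-/

set_option autoImplicit false

namespace Cfsg.Agent.Lib.GWConsumers12

open Subgroup

/-- A perfect group with centre of order two is a nonsplit double cover of its central quotient. -/
theorem isNonsplitDoubleCover_of_perfect {Y K : Type*} [Group Y] [Finite Y] [Group K]
    (hY : commutator Y = ⊤) (hZ : Nat.card (center Y) = 2) (r : Y ⧸ center Y ≃* K) :
    Cfsg.IsNonsplitDoubleCover Y K := by
  haveI : Fact (Nat.Prime 2) := ⟨Nat.prime_two⟩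
  refine ⟨hZ, ⟨r⟩, fun L hL => ?_⟩
  have hidx : L.index = 2 := by rw [hL.index_eq_card, hZ]
  haveI : L.Normal := Subgroup.normal_of_index_eq_two hidx
  haveI : IsMulCommutative (Y ⧸ L) := by
    haveI : IsCyclic (Y ⧸ L) := isCyclic_of_prime_card (p := 2) (by rw [← Subgroup.index_eq_card, hidx])
    exact ⟨⟨fun a b => (IsCyclic.commGroup (α := Y ⧸ L)).mul_comm a b⟩⟩
  have hle : commutator Y ≤ L := Subgroup.Normal.quotient_commutative_iff_commutator_le.1 inferInstance
  rw [hY] at hle
  rw [top_unique hle, Subgroup.index_top] at hidx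
  omega

end Cfsg.Agent.Lib.GWConsumers12
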